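import Cfsg.Agent.INV.NCY.W1

/-!
The orthogonal space `Q / Z` of the model of `UT₅(2)`.
-/

set_option autoImplicit false
set_option maxRecDepth 100000
set_option Elab.async false

namespace CL.NCY

open Subgroup CL.K CL.A10.Hd

/-- vectors -/
@[ext] structure Vx where
  v : ℕ
  h : v < 64

namespace Vx

instance : Mul Vx := ⟨fun a b => ⟨Nat.xor a.v b.v, Nat.xor_lt_two_pow (n := 6) a.h b.h⟩⟩
instance : One Vx := ⟨⟨0, by norm_num⟩⟩
instance : Inv Vx := ⟨fun a => a⟩

theorem mul_v (a b : Vx) : (a * b).v = a.v ^^^ b.v := rfl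

instance : CommGroup Vx :=
  { Group.ofLeftAxioms (fun _ _ _ => Vx.ext (Nat.xor_assoc _ _ _)) (fun _ => Vx.ext (Nat.zero_xor _))
      (fun _ => Vx.ext (Nat.xor_self _)) with
    mul_comm := fun _ _ => Vx.ext (Nat.xor_comm _ _) }

theorem mul_self (a : Vx) : a * a = 1 := Vx.ext (Nat.xor_self _)

instance : DecidableEq Vx := fun a b =>
  decidable_of_iff (Nat.beq a.v b.v = true) ⟨fun h => Vx.ext (Nat.eq_of_beq_eq_true h), by
    rintro rfl; exact Nat.beq_refl _⟩

/-- the vector with given code -/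
def mk' (x : ℕ) : Vx := ⟨Nat.land x 63, Nat.lt_succ_of_le Nat.and_le_right⟩

theorem mk'_v (a : Vx) : mk' a.v = a :=
  Vx.ext ((Nat.and_two_pow_sub_one_eq_mod a.v 6).trans (Nat.mod_eq_of_lt a.h))

instance : Finite Vx := Finite.of_injective (fun a => (⟨a.v, a.h⟩ : Fin 64)) fun _ _ h =>
  Vx.ext (congrArg Fin.val h)

noncomputable instance (priority := high) decAll (p : Vx → Prop) [DecidablePred p] : Decidable (∀ a, p a) :=
  decidable_of_iff (allLt (fun c => decide (p (mk' c))) 64 = true) (by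
    simp only [allLt_iff, decide_eq_true_eq]
    exact ⟨fun h a => mk'_v a ▸ h _ a.h, fun h c _ => h _⟩)

noncomputable instance (priority := high) decEx (p : Vx → Prop) [DecidablePred p] : Decidable (∃ a, p a) :=
  decidable_of_iff (anyLt (fun c => decide (p (mk' c))) 64 = true) (by
    simp only [anyLt_iff, decide_eq_true_eq]
    exact ⟨fun ⟨c, _, h⟩ => ⟨_, h⟩, fun ⟨a, h⟩ => ⟨_, a.h, (mk'_v a).symm ▸ h⟩⟩)

def u2 : Vx := ⟨1, by norm_num⟩
def u3 : Vx := ⟨2, by norm_num⟩
def u4 : Vx := ⟨4, by norm_num⟩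
def w2 : Vx := ⟨8, by norm_num⟩
def w3 : Vx := ⟨16, by norm_num⟩
def w4 : Vx := ⟨32, by norm_num⟩

/-- the quadratic form -/
noncomputable def q (a : Vx) : ℕ := force a.v fun x => bit 150 (Nat.land (Nat.land x (Nat.shiftRight x 3)) 7)

/-- the bilinear form on codes -/
def Bn (x y : ℕ) : ℕ :=
  bit 150 (Nat.land (Nat.xor (Nat.land x (Nat.shiftRight y 3)) (Nat.land y (Nat.shiftRight x 3))) 7)

/-- the bilinear form -/
noncomputable def B (a b : Vx) : ℕ := force a.v fun x => force b.v fun y => Bn x y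

theorem B_eq : ∀ a b, B a b = (q (a * b) + q a + q b) % 2 := by decide +kernel

/-- a Siegel transformation -/
noncomputable def T (s t a : Vx) : Vx := mk' (force s.v fun s => force t.v fun t => force a.v fun x =>
  Nat.xor x (Nat.xor (Nat.mul (Bn x s) t) (Nat.mul (Bn x t) s)))

theorem B_lt : ∀ a b, B a b < 2 := by decide +kernel

theorem T_eq (s t a : Vx) : T s t a = a * (t ^ B a s * s ^ B a t) := by
  have e : ∀ (n : ℕ) (t : Vx), n < 2 → (t ^ n).v = n * t.v := fun n t h => by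
    interval_cases n
    · rw [pow_zero, zero_mul]; rfl
    · rw [pow_one, one_mul]
  rw [← mk'_v (a * _), mul_v, mul_v, e _ _ (B_lt _ _), e _ _ (B_lt _ _)]
  simp only [T, B, force_eq]; rfl

/-- the pairs giving Siegel transformations -/
def Gd (s t : Vx) : Prop := q s = 0 ∧ q t = 0 ∧ B s t = 0

noncomputable instance (s t : Vx) : Decidable (Gd s t) := by unfold Gd; infer_instance

/-- action table -/
def TD : ℕ := 0xa6abecb6eae88629e49668e0c72df4d76cf0e7affcf7eef84525d45564d065a7dc75e6d824a3cc34e2c80421c41460c09e28648e6960beaa6caeeb68df2c74cf6d70ffae7cefef787da65c6de7585d24544d65503ca24c2ce3481c20440c61409628e48669e0b6aaeca6ebe8f7aefce7eff8d72cf4c76df05524d44565d075a6dc65e7d834a2cc24e3c81420c40461c0aeab6cbeea688e29649e6860efaf7cffee78cf2d74df6c706da75c7de6584d25545d64502ca34c3ce2480c21441c6040e7eefcf7aff8c76cf4d72df08668e49629e0a6eaecb6abe84564d45525d065e6dc75a7d824e2cc34a3c80460c41421c0cf6c74df2d70efee7cffaf788e68649e2960aeea6cbeab686de65c7da7584d64545d25502ce24c3ca3480c60441c2140d76df4c72cf0f7effce7aef8b6ebeca6aae89669e48628e05565d44524d075e7dc65a6d834e3cc24a2c81461c40420c0ffef7cefae78df6d74cf2c70beeb6caeaa689e69648e28607de75c6da6585d65544d24503ce34c2ca2481c61440c2040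

/-- the action of the dihedral group -/
noncomputable def D (k : ℕ) (a : Vx) : Vx :=
  mk' (Nat.shiftRight TD (Nat.mul 6 (Nat.add (Nat.mul 64 k) a.v)))

/-- agreement on the basis -/
def Eq6 (f g : Vx → Vx) : Prop :=
  f u2 = g u2 ∧ f u3 = g u3 ∧ f u4 = g u4 ∧ f w2 = g w2 ∧ f w3 = g w3 ∧ f w4 = g w4

instance (f g : Vx → Vx) : Decidable (Eq6 f g) := by unfold Eq6; infer_instance

/-- additive maps -/
def Ad (f : Vx → Vx) : Prop := ∀ a b, f (a * b) = f a * f b

theorem Ad.one {f : Vx → Vx} (h : Ad f) : f 1 = 1 := by simpa using h 1 1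

theorem Ad.comp {f g : Vx → Vx} (hf : Ad f) (hg : Ad g) : Ad fun a => f (g a) := fun a b => by
  simp only [hg a b, hf _ _]

theorem Ad.id : Ad fun a => a := fun _ _ => rfl

theorem Ad.pow {f : Vx → Vx} (h : Ad f) (a : Vx) (n : ℕ) : f (a ^ n) = f a ^ n := by
  induction n with
  | zero => simpa using h.one
  | succ n ih => rw [pow_succ, pow_succ, h, ih]

/-- the linear map with given images of the basis -/
noncomputable def lin (a b c d e f x : Vx) : Vx := mk' (force x.v fun x =>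
  Nat.xor (Nat.mul (bit x 0) a.v) (Nat.xor (Nat.mul (bit x 1) b.v) (Nat.xor (Nat.mul (bit x 2) c.v)
    (Nat.xor (Nat.mul (bit x 3) d.v) (Nat.xor (Nat.mul (bit x 4) e.v) (Nat.mul (bit x 5) f.v))))))

theorem lin_eq (a b c d e f x : Vx) : lin a b c d e f x = a ^ bit x.v 0 * (b ^ bit x.v 1 * (c ^ bit x.v 2 *
    (d ^ bit x.v 3 * (e ^ bit x.v 4 * f ^ bit x.v 5)))) := by
  have k : ∀ (i : ℕ) (t : Vx), (t ^ bit x.v i).v = bit x.v i * t.v := fun i t => by
    rw [bit_eq]; split_ifs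
    · rw [pow_one, one_mul]
    · rw [pow_zero, zero_mul]; rfl
  rw [← mk'_v (a ^ _ * _)]
  simp only [mul_v, k, lin, force_eq]; rfl

theorem lin_std : ∀ x, lin u2 u3 u4 w2 w3 w4 x = x := by decide +kernel

theorem Ad.eq_lin {f : Vx → Vx} (h : Ad f) (x : Vx) :
    f x = lin (f u2) (f u3) (f u4) (f w2) (f w3) (f w4) x := by
  conv_lhs => rw [← lin_std x]
  simp only [lin_eq, h _ _, h.pow]

theorem Eq6.ext {f g : Vx → Vx} (h : Eq6 f g) (hf : Ad f) (hg : Ad g) (x : Vx) : f x = g x := by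
  obtain ⟨h1, h2, h3, h4, h5, h6⟩ := h
  rw [hf.eq_lin, hg.eq_lin, h1, h2, h3, h4, h5, h6]

theorem Eq6.of {f g : Vx → Vx} (h : ∀ x, f x = g x) : Eq6 f g := ⟨h _, h _, h _, h _, h _, h _⟩

theorem B_mul : ∀ a b c, B (a * b) c = (B a c + B b c) % 2 := by
  have h : ∀ a c, B a c = (bit a.v 0 * B u2 c + bit a.v 1 * B u3 c + bit a.v 2 * B u4 c + bit a.v 3 * B w2 c +
      bit a.v 4 * B w3 c + bit a.v 5 * B w4 c) % 2 := by decide +kernel
  have h' : ∀ (a b : Vx) (i : Fin 6), bit (a * b).v i = (bit a.v i + bit b.v i) % 2 := by decide +kernel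
  intro a b c
  have h0 := h' a b 0; have h1 := h' a b 1; have h2 := h' a b 2
  have h3 := h' a b 3; have h4 := h' a b 4; have h5 := h' a b 5
  rw [h (a * b), h a, h b]
  change bit _ 0 = (bit _ 0 + bit _ 0) % 2 at h0
  change bit _ 1 = (bit _ 1 + bit _ 1) % 2 at h1
  change bit _ 2 = (bit _ 2 + bit _ 2) % 2 at h2
  change bit _ 3 = (bit _ 3 + bit _ 3) % 2 at h3
  change bit _ 4 = (bit _ 4 + bit _ 4) % 2 at h4
  change bit _ 5 = (bit _ 5 + bit _ 5) % 2 at h5
  rw [h0, h1, h2, h3, h4, h5]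
  have := B_lt u2 c; have := B_lt u3 c; have := B_lt u4 c
  have := B_lt w2 c; have := B_lt w3 c; have := B_lt w4 c
  generalize B u2 c = x0 at *; generalize B u3 c = x1 at *; generalize B u4 c = x2 at *
  generalize B w2 c = x3 at *; generalize B w3 c = x4 at *; generalize B w4 c = x5 at *
  interval_cases x0 <;> interval_cases x1 <;> interval_cases x2 <;> interval_cases x3 <;>
    interval_cases x4 <;> interval_cases x5 <;> omega

theorem ad_T (s t : Vx) : Ad (T s t) := fun a b => by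
  have e : ∀ (t : Vx) (m n : ℕ), t ^ ((m + n) % 2) = t ^ m * t ^ n := fun t m n => by
    rw [← pow_add]
    conv_rhs => rw [← Nat.mod_add_div (m + n) 2, pow_add, pow_mul, sq, mul_self, one_pow, mul_one]
  simp only [T_eq, B_mul, e]
  ac_rfl

theorem ad_D : ∀ k < 8, Ad (D k) := by
  have h : ∀ k < 8, ∀ a, D k a = lin (D k u2) (D k u3) (D k u4) (D k w2) (D k w3) (D k w4) a := by
    decide +kernel
  have h' : ∀ (a b : Vx) (i : Fin 6), bit (a * b).v i = (bit a.v i + bit b.v i) % 2 := by decide +kernel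
  have e : ∀ (t : Vx) (m n : ℕ), t ^ ((m + n) % 2) = t ^ m * t ^ n := fun t m n => by
    rw [← pow_add]
    conv_rhs => rw [← Nat.mod_add_div (m + n) 2, pow_add, pow_mul, sq, mul_self, one_pow, mul_one]
  intro k hk a b
  rw [h k hk (a * b), h k hk a, h k hk b]
  simp only [lin_eq]
  rw [show bit (a * b).v 0 = _ from h' a b 0, show bit (a * b).v 1 = _ from h' a b 1,
    show bit (a * b).v 2 = _ from h' a b 2, show bit (a * b).v 3 = _ from h' a b 3,
    show bit (a * b).v 4 = _ from h' a b 4, show bit (a * b).v 5 = _ from h' a b 5]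
  simp only [e]
  ac_rfl

/-- isometries -/
structure Iso (f : Vx → Vx) : Prop where
  ad : Ad f
  q : ∀ a, q (f a) = q a

theorem Iso.B {f : Vx → Vx} (h : Iso f) (a b : Vx) : B (f a) (f b) = B a b := by
  rw [B_eq, B_eq, ← h.ad, h.q, h.q, h.q]

theorem Iso.T {f : Vx → Vx} (h : Iso f) (s t a : Vx) : f (T s t a) = T (f s) (f t) (f a) := by
  simp only [T_eq, h.ad _ _, h.ad.pow, h.B]

theorem Iso.gd {f : Vx → Vx} (h : Iso f) {s t : Vx} (k : Gd s t) : Gd (f s) (f t) :=
  ⟨(h.q s).trans k.1, (h.q t).trans k.2.1, (h.B s t).trans k.2.2⟩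

/-- a necessary condition for the elements of the automiser -/
def P (f : Vx → Vx) : Prop := Eq6 (fun a => f (f a)) (fun a => a) →
  q (u2 * f u2) = 0 ∧ q (u3 * f u3) = 0 ∧ q (u4 * f u4) = 0 ∧ q (w2 * f w2) = 0 ∧ q (w3 * f w3) = 0 ∧
    q (w4 * f w4) = 0

noncomputable instance (f : Vx → Vx) : Decidable (P f) := by unfold P; infer_instance

theorem q_T {s t : Vx} (h : Gd s t) (a : Vx) : q (a * T s t a) = 0 := by
  have k : ∀ s t, Gd s t → q (s * t) = 0 := by decide +kernel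
  rw [T_eq, ← mul_assoc, mul_self, one_mul]
  have := B_lt a s; have := B_lt a t
  generalize B a s = m at *; generalize B a t = n at *
  interval_cases m <;> interval_cases n
  · rw [pow_zero, pow_zero]; decide +kernel
  · simpa using h.1
  · simpa using h.2.1
  · simpa [mul_comm] using k s t h

/-- the candidates for `e₃₂` -/
noncomputable def E2 (i : Bool) : Vx → Vx := T (cond i (w3 * u4) w3) u2

/-- the candidates for `e₄₃` -/
noncomputable def E3 (i : Bool) : Vx → Vx := T w4 (cond i (u3 * w2) u3)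

/-- `E` is obtained from `f` and the dihedral group -/
def Rc (f E : Vx → Vx) : Prop := ∃ k < 8, Eq6 (fun a => D k (f a)) (fun a => E (D k a)) ∨
  ∃ l < 8, Eq6 (fun a => D k (f (D l (f a)))) (fun a => E (D k a))

noncomputable instance (f E : Vx → Vx) : Decidable (Rc f E) := by unfold Rc; infer_instance

theorem chk1 : ∀ s t, Gd s t → (∀ k < 8, P fun a => T s t (D k a)) →
    (T s t w2 = w2 ∨ Rc (T s t) (E2 false) ∨ Rc (T s t) (E2 true)) ∧
    (T s t u4 = u4 ∨ Rc (T s t) (E3 false) ∨ Rc (T s t) (E3 true)) := by decide +kernel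

/-- the first subspace -/
def U (a : Vx) : Prop := Nat.land a.v 56 = 0
/-- the second subspace -/
def U' (a : Vx) : Prop := Nat.land a.v 7 = 0

instance (a : Vx) : Decidable (U a) := Nat.decEq _ _
instance (a : Vx) : Decidable (U' a) := Nat.decEq _ _

theorem chk2 : ∀ s t, Gd s t → ((∀ a, U a → U (T s t a)) ∧ ∀ a, U' a → U' (T s t a)) ∨
    ¬ (∀ k < 8, P fun a => T s t (D k a)) ∨
    ¬ ∀ k < 8, ∀ l < 8, (P fun a => T s t (D k (E2 false (D l a)))) ∧
      P fun a => T s t (D k (E3 false (D l a))) := by decide +kernel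

theorem chkD : ∀ k < 8, Eq6 (fun a => D k (D k a)) (fun a => a) → ∃ s t, Gd s t ∧ Eq6 (D k) (T s t) := by
  decide +kernel

/-- eighth power -/
def P8 (f : Vx → Vx) : Prop := Eq6 (fun a => f (f (f (f (f (f (f (f a)))))))) fun a => a

instance (f : Vx → Vx) : Decidable (P8 f) := by unfold P8; infer_instance

/-- commutator with an element of the dihedral group -/
noncomputable def nb (i : ℕ) (a : Vx) : Vx := a * D i a

/-- first set of conditions -/
def N1 (i j : ℕ) (a : Vx) : Prop := D j a = a ∧ D i (nb i a) = nb i a ∧ nb j (nb i a) ≠ 1 ∧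
  D i (nb j (nb i a)) = nb j (nb i a) ∧ D j (nb j (nb i a)) = nb j (nb i a) ∧ q a = 0

/-- second set of conditions -/
def N2 (i j : ℕ) (a f : Vx) : Prop := D i f = f ∧ q f = 0 ∧ B a f = 0 ∧ B a (nb j f) = 0 ∧
  B (nb i a) f = 0 ∧ B a (nb i (nb j f)) = 1

noncomputable instance (i j : ℕ) (a : Vx) : Decidable (N1 i j a) := by unfold N1; infer_instance
noncomputable instance (i j : ℕ) (a f : Vx) : Decidable (N2 i j a f) := by unfold N2; infer_instance

theorem chkN : ∀ i < 8, ∀ j < 8, ∀ a, N1 i j a → ∀ f, N2 i j a f →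
    P8 (lin a (nb i a) (nb j (nb i a)) (nb i (nb j f)) (nb j f) f) := by
  decide +kernel

theorem p8_of {μ : Vx → Vx} (h : Iso μ) (inj : Function.Injective μ) {i j : ℕ} (hi : i < 8) (hj : j < 8)
    (h1 : ∀ a, μ (D 1 a) = D i (μ a)) (h4 : ∀ a, μ (D 4 a) = D j (μ a)) (a : Vx) :
    μ (μ (μ (μ (μ (μ (μ (μ a))))))) = a := by
  have k1 : ∀ a, nb i (μ a) = μ (nb 1 a) := fun a => by rw [nb, nb, h.ad, h1]
  have k4 : ∀ a, nb j (μ a) = μ (nb 4 a) := fun a => by rw [nb, nb, h.ad, h4]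
  have e3 : nb 1 u2 = u3 := by decide +kernel
  have e4 : nb 4 u3 = u4 := by decide +kernel
  have f3 : nb 4 w4 = w3 := by decide +kernel
  have f2 : nb 1 w3 = w2 := by decide +kernel
  have := chkN i hi j hj (μ u2) (by
    rw [N1, k1, k4, e3, e4, ← h4, ← h1, ← h1, ← h4, h.q, ← h.ad.one, inj.ne_iff]
    simp only [inj.eq_iff]
    decide +kernel) (μ w4) (by
    rw [N2, k4, k1, k1, e3, f3, f2, ← h1, h.q, h.B, h.B, h.B, h.B, inj.eq_iff]
    decide +kernel)
  rw [k1, k4, k4, k1, e3, e4, f3, f2] at this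
  have e : lin (μ u2) (μ u3) (μ u4) (μ w2) (μ w3) (μ w4) = μ := funext fun x => (h.ad.eq_lin x).symm
  rw [e] at this
  exact this.ext (h.ad.comp (h.ad.comp (h.ad.comp (h.ad.comp (h.ad.comp (h.ad.comp (h.ad.comp h.ad)))))))
    Ad.id a

end Vx

end CL.NCY
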